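import Cfsg.Agent.Char.Frobenius

/-!
# A complement theorem for trivial-intersection subgroups
-/

namespace Cfsg.Agent.TIComplement

open scoped ComplexConjugate
open Cfsg.Agent.Char

universe u

variable {G : Type u} [Group G] {M H : Subgroup G}

theorem indFun_eq [Fintype G] (π : M →* H)
    (hTI : ∀ g : G, g ∉ M → ∀ m : M, π m ≠ 1 → g * m * g⁻¹ ∉ M) {α : M → ℂ}
    (hα : IsClassFunction M α) (h0 : ∀ m : M, π m = 1 → α m = 0) (m : M) : indFun M α (m : G) = α m := by
  classical
  have hx : ∀ x : G, extendByZero M α (x⁻¹ * m * x) = if x ∈ M then α m else 0 := by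
    intro x
    split_ifs with hx
    · rw [extendByZero_of_mem M α (M.mul_mem (M.mul_mem (M.inv_mem hx) m.2) hx)]
      rw [← hα m ⟨x⁻¹, M.inv_mem hx⟩]
      exact congrArg α (Subtype.ext (by simp))
    · by_cases hm : x⁻¹ * m * x ∈ M
      · rw [extendByZero_of_mem M α hm]
        refine h0 _ (by_contra fun hne => ?_)
        exact hTI x hx ⟨_, hm⟩ hne (by simpa [mul_assoc] using m.2)
      · exact extendByZero_of_not_mem M α hm
  have : (Nat.card M : ℂ) ≠ 0 := Nat.cast_ne_zero.2 Nat.card_pos.ne'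
  rw [indFun_apply, Finset.sum_congr rfl fun x _ => hx x, ← Finset.sum_filter, Finset.sum_const,
    nsmul_eq_mul, ← Fintype.card_subtype, ← Nat.card_eq_fintype_card]
  field_simp

theorem extend [Finite G] (π : M →* H) (hπs : Function.Surjective π)
    (hTI : ∀ g : G, g ∉ M → ∀ m : M, π m ≠ 1 → g * m * g⁻¹ ∉ M) {φ₀ : H → ℂ}
    (hφ₀ : IsIrrCharacter H φ₀) :
    ∃ ψ : G → ℂ, IsIrrCharacter G ψ ∧ (∀ m : M, ψ m = φ₀ (π m)) ∧
      ∀ g : G, (∀ x : G, ∀ hx : x⁻¹ * g * x ∈ M, π ⟨_, hx⟩ = 1) → ψ g = φ₀ 1 := by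
  have := Fintype.ofFinite G
  have := Fintype.ofFinite M
  set φ : M → ℂ := fun m => φ₀ (π m) with hφdef
  have hφ : IsIrrCharacter M φ := isIrrCharacter_comp π hπs hφ₀
  obtain ⟨d, hd0, hd⟩ := IsIrr.degree hφ
  have hd' : φ₀ 1 = d := by rw [← hd, hφdef]; simp
  by_cases htriv : φ = fun _ => 1
  · refine ⟨fun _ => 1, isIrrCharacter_one, fun m => (congrFun htriv m).symm, fun g _ => ?_⟩
    have := congrFun htriv 1
    simp [hφdef] at this
    exact this.symm
  set α : M → ℂ := φ - (d : ℂ) • (fun _ => 1) with hα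
  have hαgen : IsGeneralizedCharacter M α :=
    ⟨φ, (d : ℂ) • (fun _ => 1), IsIrr.isCharacter hφ, isCharacter_natCast_smul d isCharacter_one,
      rfl⟩
  have hα0 : ∀ m : M, π m = 1 → α m = 0 := fun m hm => by simp [hα, hφdef, hm, hd']
  have hα1 : α 1 = 0 := hα0 1 (map_one π)
  have hres : (fun m : M => indFun M α (m : G)) = α :=
    funext (indFun_eq π hTI (IsGen.isClassFunction hαgen) hα0)
  set ψ : G → ℂ := indFun M α + (d : ℂ) • (fun _ => 1) with hψ
  have hψgen : IsGeneralizedCharacter G ψ := isGeneralized_add (isGeneralized_indFun M hαgen)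
    (isGeneralized_of_isCharacter (isCharacter_natCast_smul d isCharacter_one))
  have e1 : classInner φ (fun _ : M => (1 : ℂ)) = 0 :=
    classInner_irr_ne hφ isIrrCharacter_one htriv
  have e2 : classInner (fun _ : M => (1 : ℂ)) φ = 0 :=
    classInner_irr_ne isIrrCharacter_one hφ (Ne.symm htriv)
  have e3 : classInner α (fun _ : M => (1 : ℂ)) = -(d : ℂ) := by
    rw [hα, classInner_sub_left, classInner_smul_left, e1,
      classInner_irr_self isIrrCharacter_one]
    ring
  have e4 : classInner α α = 1 + (d : ℂ) * d := by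
    simp only [hα, classInner_sub_left, classInner_sub_right, classInner_smul_left,
      classInner_smul_right, e1, e2, classInner_irr_self hφ,
      classInner_irr_self (isIrrCharacter_one (G := M)), Complex.conj_natCast]
    ring
  have e6 : classInner (indFun M α) (fun _ : G => (1 : ℂ)) = -(d : ℂ) := by
    rw [classInner_indFun_left M α (isClassFunction_of_isIrr isIrrCharacter_one)]
    exact e3
  have e7 : classInner (fun _ : G => (1 : ℂ)) (indFun M α) = -(d : ℂ) := by
    rw [← classInner_conj_symm, e6, map_neg, Complex.conj_natCast]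
  have hnorm : classInner ψ ψ = 1 := by
    simp only [hψ, classInner_add_left, classInner_add_right, classInner_smul_left,
      classInner_smul_right, e6, e7, classInner_irr_self (isIrrCharacter_one (G := G)),
      Complex.conj_natCast]
    rw [classInner_indFun_left M α (isClassFunction_indFun M α), hres, e4]
    ring
  refine ⟨ψ, IsGen.isIrr_of_norm_one hψgen hnorm ?_, fun h => ?_, fun g hg => ?_⟩
  · simp only [hψ, Pi.add_apply, Pi.smul_apply, smul_eq_mul, mul_one, indFun_apply_one, hα1,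
      mul_zero, zero_add, Complex.natCast_re]
    exact_mod_cast hd0
  · have h2 := congrFun hres h
    simp only [hψ, Pi.add_apply, h2]
    simp [hα, hφdef]
  · have h0 : indFun M α g = 0 := by
      rw [indFun_apply, Finset.sum_eq_zero, mul_zero]
      intro x _
      by_cases hx : x⁻¹ * g * x ∈ M
      · rw [extendByZero_of_mem M α hx]; exact hα0 _ (hg x hx)
      · exact extendByZero_of_not_mem M α hx
    simp [hψ, h0, hd']

theorem exists_complement [Finite G] (hHM : H ≤ M) (π : M →* H) (hπ : ∀ h : H, π ⟨h, hHM h.2⟩ = h)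
    (hTI : ∀ g : G, g ∉ M → ∀ m : M, π m ≠ 1 → g * m * g⁻¹ ∉ M) :
    ∃ N : Subgroup G, N.Normal ∧ Subgroup.IsComplement' N H := by
  classical
  have := Fintype.ofFinite G
  have hπs : Function.Surjective π := fun h => ⟨_, hπ h⟩
  let out : G → Prop := fun g => ∀ x : G, ∀ hx : x⁻¹ * g * x ∈ M, π ⟨_, hx⟩ = 1
  let N : Subgroup G :=
    { carrier := {g | ∀ ψ : IrrCharacter G, (∀ x : G, out x → (ψ : G → ℂ) x = (ψ : G → ℂ) 1) →
          (ψ : G → ℂ) g = (ψ : G → ℂ) 1}
      one_mem' := fun ψ _ => rfl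
      mul_mem' := fun {a b} ha hb ψ hψ =>
        (IsChar.mul_left_of_mem_kernel (IsIrr.isCharacter ψ.2) (ha ψ hψ) b).trans (hb ψ hψ)
      inv_mem' := fun {a} ha ψ hψ => by
        show (ψ : G → ℂ) a⁻¹ = (ψ : G → ℂ) 1
        rw [IsChar.inv_eq_conj (IsIrr.isCharacter ψ.2), ha ψ hψ]
        obtain ⟨n, -, e⟩ := IsIrr.degree ψ.2
        simp [e] }
  have hN : N.Normal := ⟨fun n hn g ψ hψ => by
    rw [isClassFunction_of_isIrr ψ.2 n g]; exact hn ψ hψ⟩
  have hsub : ∀ g : G, out g → g ∈ N := fun g hg ψ hψ => hψ g hg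
  have hinter : ∀ h : G, h ∈ H → h ∈ N → h = 1 := by
    intro h hh hhN
    refine congrArg Subtype.val (eq_one_of_forall_irr (g := (⟨h, hh⟩ : H)) fun φ => ?_)
    obtain ⟨ψ, hψ, hψM, hψout⟩ := extend π hπs hTI φ.2
    have hψ1 : ψ 1 = (φ : H → ℂ) 1 := by simpa using hψM 1
    have h1 := hhN ⟨ψ, hψ⟩ fun x hx => (hψout x hx).trans hψ1.symm
    simp only [hψ1] at h1
    have h2 := hψM ⟨h, hHM hh⟩
    rw [show π ⟨h, hHM hh⟩ = ⟨h, hh⟩ from hπ ⟨h, hh⟩] at h2
    exact h2.symm.trans h1
  have hinj : Function.Injective fun p : N × H => (p.1 : G) * p.2 := by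
    rintro ⟨a, c⟩ ⟨b, d⟩ e
    have h1 : (b : G)⁻¹ * a = d * (c : G)⁻¹ := by
      rw [inv_mul_eq_iff_eq_mul, ← mul_assoc]
      simp only at e
      rw [← e, mul_inv_cancel_right]
    have h2 : (b : G)⁻¹ * a = 1 :=
      hinter _ (h1 ▸ H.mul_mem d.2 (H.inv_mem c.2)) (N.mul_mem (N.inv_mem b.2) a.2)
    rw [h2] at h1
    exact Prod.ext (Subtype.ext (inv_mul_eq_one.1 h2).symm) (Subtype.ext (mul_inv_eq_one.1 h1.symm).symm)
  have hle : Nat.card N * Nat.card H ≤ Nat.card G := by
    rw [← Nat.card_prod]; exact Nat.card_le_card_of_injective _ hinj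
  let cv : (G ⧸ M) × {m : M // π m ≠ 1} → G := fun p => p.1.out * (p.2.1 : G) * p.1.out⁻¹
  have hcov : ∀ g : G, g ∉ N → ∃ p, cv p = g := by
    intro g hg
    have hg' := mt (hsub g) hg
    simp only [out, not_forall] at hg'
    obtain ⟨x, hx, hne⟩ := hg'
    obtain ⟨k, hk⟩ := QuotientGroup.mk_out_eq_mul M x
    set o := (QuotientGroup.mk (s := M) x).out
    have hm : o⁻¹ * g * o ∈ M := by
      rw [hk, mul_inv_rev]
      have := M.mul_mem (M.mul_mem (M.inv_mem k.2) hx) k.2
      simpa [mul_assoc] using this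
    refine ⟨(QuotientGroup.mk x, ⟨⟨_, hm⟩, fun h0 => hne ?_⟩), ?_⟩
    · have e : (⟨_, hm⟩ : M) = k⁻¹ * ⟨_, hx⟩ * k := Subtype.ext (by
        simp only [Subgroup.coe_mul, Subgroup.coe_inv, hk]; group)
      rw [e, map_mul, map_mul, map_inv] at h0
      have h1 := congrArg (fun z => π k * z * (π k)⁻¹) h0
      simpa [mul_assoc] using h1
    · show o * (o⁻¹ * g * o) * o⁻¹ = g
      group
  have hge : Nat.card G ≤ Nat.card N + M.index * (Nat.card M - Nat.card π.ker) := by
    have e1 : Nat.card {m : M // π m ≠ 1} = Nat.card M - Nat.card π.ker := by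
      have := Nat.card_congr (Equiv.sumCompl (fun m : M => π m = 1))
      rw [Nat.card_sum] at this
      have e : Nat.card {m : M // π m = 1} = Nat.card π.ker := rfl
      change Nat.card {m : M // π m = 1} + Nat.card {m : M // π m ≠ 1} = Nat.card M at this
      omega
    rw [← Nat.card_congr (Equiv.sumCompl (fun g : G => g ∈ N)), Nat.card_sum, Subgroup.index_eq_card, ← e1, ← Nat.card_prod]
    refine Nat.add_le_add le_rfl ?_
    choose q hq using fun g : {g : G // g ∉ N} => hcov g.1 g.2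
    exact Nat.card_le_card_of_injective q fun a b e => Subtype.ext ((hq a).symm.trans ((congrArg cv e).trans (hq b)))
  have hMk : Nat.card π.ker * Nat.card H = Nat.card M := by
    have h1 := π.ker.card_mul_index
    rwa [Subgroup.index_ker, MonoidHom.range_eq_top.2 hπs, Subgroup.card_top] at h1
  have hMG : Nat.card M * M.index = Nat.card G := M.card_mul_index
  refine ⟨N, hN, Subgroup.isComplement'_of_card_mul_and_disjoint ?_
    (Subgroup.disjoint_def.2 fun h1 h2 => hinter _ h2 h1)⟩
  refine le_antisymm hle ?_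
  have hkM : Nat.card π.ker ≤ Nat.card M := Nat.card_le_card_of_injective _ Subtype.val_injective
  have h4 : Nat.card G + M.index * Nat.card π.ker ≤ Nat.card N + Nat.card G := by
    have h5 : M.index * (Nat.card M - Nat.card π.ker) + M.index * Nat.card π.ker = Nat.card G := by
      rw [← Nat.mul_add, Nat.sub_add_cancel hkM, mul_comm, hMG]
    omega
  calc Nat.card G = M.index * Nat.card π.ker * Nat.card H := by rw [mul_assoc, hMk, mul_comm, hMG]
    _ ≤ Nat.card N * Nat.card H := Nat.mul_le_mul_right _ (by omega)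

end Cfsg.Agent.TIComplement
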